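import Mathlib

/-!
Element-order sets of finite groups and of their finite products.
-/

set_option autoImplicit false

namespace Cfsg.Agent.Lib.OrderSets

/-- The set of element orders of `G`. -/
abbrev omega (G : Type*) [Monoid G] : Set ℕ := Set.range (orderOf : G → ℕ)

variable {G H : Type*} [Group G] [Group H]

theorem omega_pos [Finite G] {m : ℕ} (hm : m ∈ omega G) : 0 < m := by
  obtain ⟨g, rfl⟩ := hm
  exact orderOf_pos g

theorem omega_of_dvd [Finite G] {m d : ℕ} (hm : m ∈ omega G) (hd : d ∣ m) : d ∈ omega G := by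
  obtain ⟨g, rfl⟩ := hm
  exact ⟨g ^ (orderOf g / d), orderOf_pow_orderOf_div (orderOf_pos g).ne' hd⟩

theorem one_mem_omega : 1 ∈ omega G := ⟨1, orderOf_one⟩

theorem omega_dvd_card {m : ℕ} (hm : m ∈ omega G) : m ∣ Nat.card G := by
  obtain ⟨g, rfl⟩ := hm
  exact orderOf_dvd_natCard g

theorem mem_omega_prod {m : ℕ} :
    m ∈ omega (G × H) ↔ ∃ a ∈ omega G, ∃ b ∈ omega H, m = Nat.lcm a b := by
  constructor
  · rintro ⟨⟨g, h⟩, rfl⟩
    exact ⟨_, ⟨g, rfl⟩, _, ⟨h, rfl⟩, Prod.orderOf_mk⟩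
  · rintro ⟨_, ⟨g, rfl⟩, _, ⟨h, rfl⟩, rfl⟩
    exact ⟨(g, h), Prod.orderOf_mk⟩

theorem mem_omega_pi {ι : Type*} [Fintype ι] {K : ι → Type*} [∀ i, Group (K i)] {m : ℕ} :
    m ∈ omega (∀ i, K i) ↔
      ∃ a : ι → ℕ, (∀ i, a i ∈ omega (K i)) ∧ m = Finset.univ.lcm a := by
  constructor
  · rintro ⟨x, rfl⟩
    exact ⟨fun i => orderOf (x i), fun i => ⟨x i, rfl⟩, Pi.orderOf x⟩
  · rintro ⟨a, ha, rfl⟩
    choose x hx using ha
    refine ⟨x, ?_⟩
    rw [Pi.orderOf]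
    simp [hx]

theorem omega_congr (e : G ≃* H) : omega G = omega H := by
  ext m
  constructor
  · rintro ⟨g, rfl⟩; exact ⟨e g, e.orderOf_eq g⟩
  · rintro ⟨h, rfl⟩; exact ⟨e.symm h, e.symm.orderOf_eq h⟩

theorem omega_mono_of_injective (f : H →* G) (hf : Function.Injective f) :
    omega H ⊆ omega G := by
  rintro m ⟨h, rfl⟩; exact ⟨f h, orderOf_injective f hf h⟩

/-- Every element order divides an element order that is maximal for divisibility. -/
theorem exists_maximal [Finite G] {a : ℕ} (ha : a ∈ omega G) :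
    ∃ m, (m ∈ omega G ∧ ∀ b ∈ omega G, m ∣ b → b = m) ∧ a ∣ m := by
  classical
  have hfin : {m : ℕ | m ∈ omega G ∧ a ∣ m}.Finite :=
    (Set.finite_range _).subset fun m hm => hm.1
  obtain ⟨m, ⟨hm, ham⟩, hmax⟩ :=
    Set.exists_max_image _ (fun x : ℕ => x) hfin ⟨a, ha, dvd_rfl⟩
  exact ⟨m, ⟨hm, fun b hb hmb =>
    le_antisymm (hmax b ⟨hb, ham.trans hmb⟩) (Nat.le_of_dvd (omega_pos hb) hmb)⟩, ham⟩

end Cfsg.Agent.Lib.OrderSets
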